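import Cfsg.Agent.Lib.HallJankoOrder.Small
import Mathlib.GroupTheory.Index
import Mathlib.GroupTheory.GroupAction.ConjAct
import Mathlib.GroupTheory.GroupAction.Quotient
import Mathlib.GroupTheory.Rank
import Mathlib.GroupTheory.OrderOfElement

/-!
Counting conjugates for the two-class order formula in the Hall–Janko situation.
-/

set_option autoImplicit false
set_option linter.unusedSectionVars false

namespace Cfsg.Agent.Lib.HallJankoOrder

variable {G : Type*} [Group G] [Finite G]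

theorem card_class_mul (a : G) :
    Nat.card {x // IsConj a x} * Nat.card (Subgroup.centralizer ({a} : Set G)) = Nat.card G := by
  rw [Subgroup.nat_card_centralizer_nat_card_stabilizer,
    show Nat.card {x // IsConj a x} = Nat.card (MulAction.orbit (ConjAct G) a) from
      Nat.card_congr (Equiv.subtypeEquivRight fun x => by
        rw [ConjAct.mem_orbit_conjAct, isConj_comm]),
    Nat.card_congr (MulAction.orbitEquivQuotientStabilizer (ConjAct G) a)]
  exact (Subgroup.card_eq_card_quotient_mul_card_subgroup _).symm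

theorem orderOf_of_isConj {x y : G} (h : IsConj x y) : orderOf x = orderOf y := by
  obtain ⟨g, rfl⟩ := isConj_iff.1 h
  rw [← MulAut.conj_apply]
  exact ((MulAut.conj g).orderOf_eq x).symm

theorem card_pairs (a : G) (R : G → G → Prop)
    (hR : ∀ g x q, R x q → R (g * x * g⁻¹) (g * q * g⁻¹)) :
    Nat.card {p : G × G // IsConj a p.1 ∧ R p.1 p.2} =
      Nat.card {x // IsConj a x} * Nat.card {q // R a q} := by
  have hg : ∀ x : {x // IsConj a x}, ∃ g, g * a * g⁻¹ = x.1 := fun x => isConj_iff.1 x.2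
  choose γ hγ using hg
  have key : ∀ g x q, g * a * g⁻¹ = x → R x q → R a (g⁻¹ * q * g) := by
    rintro g x q rfl h
    simpa [mul_assoc] using hR g⁻¹ _ _ h
  rw [← Nat.card_prod]
  refine Nat.card_congr
    { toFun := fun p => (⟨p.1.1, p.2.1⟩,
        ⟨(γ ⟨p.1.1, p.2.1⟩)⁻¹ * p.1.2 * γ ⟨p.1.1, p.2.1⟩, key _ _ _ (hγ ⟨p.1.1, p.2.1⟩) p.2.2⟩)
      invFun := fun r => ⟨(r.1.1, γ r.1 * r.2.1 * (γ r.1)⁻¹), r.1.2, by
        have h := hR (γ r.1) _ _ r.2.2
        rwa [hγ r.1] at h⟩
      left_inv := fun p => Subtype.ext (Prod.ext rfl (by simp [mul_assoc]))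
      right_inv := fun r => Prod.ext rfl (Subtype.ext (by simp [mul_assoc])) }

theorem invol_iff {x : G} : orderOf x = 2 ↔ x * x = 1 ∧ x ≠ 1 := by
  rw [orderOf_eq_prime_iff, sq]

theorem card_transport (B : Subgroup G) (e : ↥B ≃* alternatingGroup (Fin 5))
    (P : alternatingGroup (Fin 5) → Prop) [DecidablePred P] :
    Nat.card {x : G // ∃ h : x ∈ B, P (e ⟨x, h⟩)} = (Finset.univ.filter P).card := by
  rw [← Fintype.card_subtype, ← Nat.card_eq_fintype_card]
  exact Nat.card_congr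
    { toFun := fun x => ⟨e ⟨x.1, x.2.1⟩, x.2.2⟩
      invFun := fun y => ⟨(e.symm y.1).1, (e.symm y.1).2, by
        rw [Subtype.coe_eta, MulEquiv.apply_symm_apply]; exact y.2⟩
      left_inv := fun x => Subtype.ext (by simp)
      right_inv := fun y => Subtype.ext (by simp) }

theorem a5_exponent : ∀ x : alternatingGroup (Fin 5), x ^ 15 = 1 ∨ x * x = 1 := by
  decide +kernel

/-- The hypotheses on the centraliser of `t`. -/
structure TSide (z t : G) (V B : Subgroup G) : Prop where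
  hz : orderOf z = 2
  ht : orderOf t = 2
  hzt : ¬ IsConj z t
  comm : ∀ a ∈ V, ∀ b ∈ B, a * b = b * a
  disj : V ⊓ B = ⊥
  decomp : ∀ x : G, x * t = t * x → ∃ a ∈ V, ∃ b ∈ B, x = a * b
  le : ∀ b ∈ B, b * t = t * b
  two : ∀ a ∈ V, a * a = 1
  mem : t ∈ V
  Bz : ∀ x ∈ B, orderOf x = 2 → IsConj x z
  Ct : ∀ x : G, x * t = t * x → orderOf x = 2 → x ∉ B → IsConj x t

variable {z t : G} {V B : Subgroup G}

theorem TSide.zclass (d : TSide z t V B) (u : G) :
    (IsConj z u ∧ u * t = t * u) ↔ (u ∈ B ∧ u * u = 1 ∧ u ≠ 1) := by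
  constructor
  · rintro ⟨h, hc⟩
    have ho : orderOf u = 2 := (orderOf_of_isConj h).symm.trans d.hz
    refine ⟨?_, invol_iff.1 ho⟩
    by_contra hB
    exact d.hzt (h.trans (d.Ct u hc ho hB))
  · rintro ⟨hB, h2⟩
    exact ⟨(d.Bz u hB (invol_iff.2 h2)).symm, d.le u hB⟩

theorem TSide.card_zclass (d : TSide z t V B) (e : ↥B ≃* alternatingGroup (Fin 5)) :
    Nat.card {u // IsConj z u ∧ u * t = t * u} = 15 := by
  rw [← a5_involutions, ← card_transport B e]
  refine Nat.card_congr (Equiv.subtypeEquivRight fun u => ?_)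
  rw [d.zclass]
  constructor
  · rintro ⟨h, h1, h2⟩
    exact ⟨h, by rw [← map_mul]; simpa [Subtype.ext_iff] using h1,
      fun he => h2 (by simpa [Subtype.ext_iff] using e.map_eq_one_iff.1 he)⟩
  · rintro ⟨h, h1, h2⟩
    rw [← map_mul, e.map_eq_one_iff] at h1
    exact ⟨h, by simpa [Subtype.ext_iff] using h1, fun he => h2 (by
      subst he; exact map_one e)⟩

theorem TSide.card_zclass_comm (d : TSide z t V B) (e : ↥B ≃* alternatingGroup (Fin 5)) {w : G}
    (hw : IsConj z w) (hwt : w * t = t * w) :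
    Nat.card {u // (IsConj z u ∧ u * t = t * u) ∧ u * w = w * u} = 3 := by
  obtain ⟨hwB, hw2, hw1⟩ := (d.zclass w).1 ⟨hw, hwt⟩
  rw [← a5_commuting (e ⟨w, hwB⟩) (by rw [← map_mul, e.map_eq_one_iff]; exact Subtype.ext hw2)
    (fun h => hw1 (congrArg Subtype.val (e.map_eq_one_iff.1 h))), ← card_transport B e]
  refine Nat.card_congr (Equiv.subtypeEquivRight fun u => ?_)
  rw [d.zclass]
  constructor
  · rintro ⟨⟨h, h1, h2⟩, h3⟩
    refine ⟨h, by rw [← map_mul]; simpa [Subtype.ext_iff] using h1,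
      fun he => h2 (by simpa [Subtype.ext_iff] using e.map_eq_one_iff.1 he), ?_⟩
    rw [← map_mul, ← map_mul]
    exact congrArg e (Subtype.ext h3)
  · rintro ⟨h, h1, h2, h3⟩
    rw [← map_mul, e.map_eq_one_iff] at h1
    rw [← map_mul, ← map_mul] at h3
    refine ⟨⟨h, by simpa [Subtype.ext_iff] using h1, fun he => h2 (by
      subst he; exact map_one e)⟩, congrArg Subtype.val (e.injective h3)⟩

theorem TSide.count_t (d : TSide z t V B) (e : ↥B ≃* alternatingGroup (Fin 5)) :
    Nat.card {p : G × G // IsConj z p.1 ∧ IsConj t p.2 ∧ t ∈ Subgroup.zpowers (p.1 * p.2)} = 195 := by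
  have ht2 := invol_iff.1 d.ht
  have htinv : t⁻¹ = t := inv_eq_of_mul_eq_one_right ht2.1
  -- both members centralise `t`
  have hcen : ∀ p : G × G, IsConj z p.1 → IsConj t p.2 → t ∈ Subgroup.zpowers (p.1 * p.2) →
      p.1 * t = t * p.1 ∧ p.2 * t = t * p.2 := by
    rintro ⟨u, v⟩ hu hv hmem
    have hu2 := invol_iff.1 ((orderOf_of_isConj hu).symm.trans d.hz)
    have hv2 := invol_iff.1 ((orderOf_of_isConj hv).symm.trans d.ht)
    obtain ⟨k, hk⟩ := Subgroup.mem_zpowers_iff.1 hmem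
    have hui : u⁻¹ = u := inv_eq_of_mul_eq_one_right hu2.1
    have hvi : v⁻¹ = v := inv_eq_of_mul_eq_one_right hv2.1
    have h1 : u * t * u⁻¹ = t := by
      have : u * (u * v) * u⁻¹ = (u * v)⁻¹ := by
        rw [mul_inv_rev, hui, hvi, ← mul_assoc, hu2.1, one_mul]
      rw [← hk, ← conj_zpow, this, inv_zpow, hk, htinv]
    have h1' : u * t = t * u := by
      calc u * t = u * t * u⁻¹ * u := by group
        _ = t * u := by rw [h1]
    refine ⟨h1', ?_⟩
    have h2 : (u * v) * t = t * (u * v) := by rw [← hk]; exact ((Commute.refl (u * v)).zpow_right k).eq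
    apply mul_left_cancel (a := u)
    rw [← mul_assoc, h2, ← mul_assoc t, ← mul_assoc u t, h1']
  obtain ⟨S, hS, hmemS⟩ : ∃ S : Finset (alternatingGroup (Fin 5) × alternatingGroup (Fin 5)),
      S.card = 195 ∧ ∀ q, q ∈ S ↔
        (q.1 * q.1 = 1 ∧ q.1 ≠ 1 ∧ q.2 * q.2 = 1 ∧ (q.1 * q.2) ^ 15 = 1) :=
    ⟨_, a5_pairs, fun _ => Finset.mem_filter_univ _⟩
  rw [← hS, ← Nat.card_eq_finsetCard S]
  symm
  refine Nat.card_eq_of_bijective (fun q => ⟨((e.symm q.1.1 : ↥B) , t * (e.symm q.1.2 : ↥B)), ?_⟩) ?_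
  · obtain ⟨hq1, hq1', hq2, hq15⟩ := (hmemS q.1).1 q.2
    set b := e.symm q.1.1
    set c := e.symm q.1.2
    have hb : (b : G) * b = 1 ∧ (b : G) ≠ 1 := by
      refine ⟨?_, fun h => hq1' ?_⟩
      · rw [← Subgroup.coe_mul, ← map_mul, hq1, map_one]; rfl
      · have : b = 1 := Subtype.ext h
        exact (MulEquiv.map_eq_one_iff e.symm).1 this
    have hc : (c : G) * c = 1 := by rw [← Subgroup.coe_mul, ← map_mul, hq2, map_one]; rfl
    have hct : t * (c : G) = c * t := (d.le c c.2).symm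
    refine ⟨(d.Bz b b.2 (invol_iff.2 hb)).symm, (d.Ct _ ?_ (invol_iff.2 ⟨?_, ?_⟩) ?_).symm, ?_⟩
    · rw [mul_assoc, ← hct]
    · rw [mul_assoc, ← mul_assoc (c : G), ← hct, mul_assoc t (c : G), hc, mul_one, ht2.1]
    · intro h
      have htB : t ∈ B := by rw [eq_inv_of_mul_eq_one_left h]; exact inv_mem c.2
      exact ht2.2 (Subgroup.mem_bot.1 (d.disj ▸ ⟨d.mem, htB⟩))
    · intro h
      exact ht2.2 (Subgroup.mem_bot.1 (d.disj ▸
        ⟨d.mem, (Subgroup.mul_mem_cancel_right B c.2).1 h⟩))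
    · refine Subgroup.mem_zpowers_iff.2 ⟨15, ?_⟩
      rw [show (b : G) * (t * c) = t * (b * c) by rw [← mul_assoc, d.le b b.2, mul_assoc]]
      have hcm : Commute t ((b : G) * c) := (d.le _ (mul_mem b.2 c.2)).symm
      have h15 : ((b : G) * c) ^ 15 = 1 := by
        rw [← Subgroup.coe_mul, ← map_mul, ← Subgroup.coe_pow, ← map_pow, hq15, map_one]; rfl
      rw [show (15 : ℤ) = ((15 : ℕ) : ℤ) from rfl, zpow_natCast, hcm.mul_pow, h15, mul_one,
        show 15 = 2 * 7 + 1 from rfl, pow_succ, pow_mul, sq, ht2.1, one_pow, one_mul]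
  · constructor
    · rintro ⟨q, hq⟩ ⟨q', hq'⟩ h
      simp only [Subtype.mk.injEq, Prod.mk.injEq, SetLike.coe_eq_coe, mul_right_inj,
        EmbeddingLike.apply_eq_iff_eq] at h
      exact Subtype.ext (Prod.ext h.1 h.2)
    · rintro ⟨⟨u, v⟩, hu, hv, hmem⟩
      obtain ⟨hut, hvt⟩ := hcen (u, v) hu hv hmem
      obtain ⟨huB, hu2⟩ := (d.zclass u).1 ⟨hu, hut⟩
      have hv2 := invol_iff.1 ((orderOf_of_isConj hv).symm.trans d.ht)
      obtain ⟨a, ha, c, hc, hvac⟩ := d.decomp v hvt
      have hcc : c * c = 1 := by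
        have h := hv2.1
        rwa [hvac, mul_assoc, ← mul_assoc c, ← d.comm a ha c hc, mul_assoc a c, ← mul_assoc a a,
          d.two a ha, one_mul] at h
      obtain ⟨k, hk⟩ := (isOfFinOrder_of_finite _).mem_powers_iff_mem_zpowers.2 hmem
      have hcm : Commute a (u * c) := d.comm a ha _ (mul_mem huB hc)
      simp only at hk
      rw [hvac, ← mul_assoc, ← d.comm a ha u huB, mul_assoc, hcm.mul_pow] at hk
      have hk1 : (u * c) ^ k = 1 := by
        refine Subgroup.mem_bot.1 (d.disj ▸ ⟨?_, pow_mem (mul_mem huB hc) k⟩)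
        rw [eq_inv_mul_of_mul_eq hk]
        exact V.mul_mem (V.inv_mem (V.pow_mem ha k)) d.mem
      rw [hk1, mul_one] at hk
      have hkodd : k % 2 = 1 ∧ a = t := by
        rcases Nat.mod_two_eq_zero_or_one k with h | h
        · rw [← Nat.div_add_mod k 2, h, add_zero, pow_mul, sq, d.two a ha, one_pow] at hk
          exact absurd hk.symm ht2.2
        · rw [← Nat.div_add_mod k 2, h, pow_succ, pow_mul, sq, d.two a ha, one_pow, one_mul] at hk
          exact ⟨h, hk⟩
      obtain ⟨hk2, rfl⟩ := hkodd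
      set b : ↥B := ⟨u, huB⟩
      set c' : ↥B := ⟨c, hc⟩
      refine ⟨⟨(e b, e c'), (hmemS _).2 ⟨?_, ?_, ?_, ?_⟩⟩, ?_⟩
      · rw [← map_mul, show b * b = 1 from Subtype.ext hu2.1, map_one]
      · exact fun h => hu2.2 (congrArg Subtype.val (e.map_eq_one_iff.1 h))
      · rw [← map_mul, show c' * c' = 1 from Subtype.ext hcc, map_one]
      · show (e b * e c') ^ 15 = 1
        rw [← map_mul]
        rcases a5_exponent (e (b * c')) with h | h
        · exact h
        · have hk' : e (b * c') ^ k = 1 := by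
            rw [← map_pow, show (b * c') ^ k = 1 from Subtype.ext (by simpa using hk1), map_one]
          rw [← Nat.div_add_mod k 2, hk2, pow_succ, pow_mul, sq, h, one_pow, one_mul] at hk'
          rw [hk', one_pow]
      · simp [b, c', hvac]

end Cfsg.Agent.Lib.HallJankoOrder
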