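import Cfsg.Agent.Lib.HallJankoOrder.Small
import Cfsg.Agent.Lib.Cores.Frattini
import Cfsg.Prelude.Def_Transfer
import Mathlib.GroupTheory.Perm.Cycle.Type

/-!
An extraspecial group of order `32` with an automorphism of order five has ten non-central
involutions, no two of which generate an elementary group avoiding the centre.
-/

set_option autoImplicit false
set_option linter.unusedSectionVars false

namespace Cfsg.Agent.Lib.HallJankoOrder

open Cfsg
open scoped Classical

variable {P : Type*} [Group P] [Fintype P] {ζ : P}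

/-- The sign of the square. -/
noncomputable def sqSign (g : P) : ℤ := if g * g = 1 then 1 else -1

/-- The sign of the commutator. -/
noncomputable def comSign (w g : P) : ℤ := if g * w = w * g then 1 else -1

structure SymplecticData (ζ : P) : Prop where
  ne : ζ ≠ 1
  sq : ζ * ζ = 1
  central : ∀ g : P, g * ζ = ζ * g
  square : ∀ g : P, g * g = 1 ∨ g * g = ζ
  comm : ∀ a b : P, a * b = b * a ∨ a * b = b * a * ζ
  nondeg : ∀ w : P, (∀ g : P, g * w = w * g) → w = 1 ∨ w = ζ

theorem sqSign_mul (hd : SymplecticData ζ) (g w : P) :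
    sqSign (g * w) = sqSign g * sqSign w * comSign w g := by
  have hc := hd.central
  have key : g * w * (g * w) = g * (w * g) * w := by simp only [mul_assoc]
  rcases hd.comm w g with h | h
  · have e : g * w * (g * w) = g * g * (w * w) := by rw [key, h]; simp only [mul_assoc]
    simp only [sqSign, comSign, if_pos h.symm, e]
    rcases hd.square g with a | a <;> rcases hd.square w with b | b <;>
      simp [a, b, hd.ne, hd.sq]
  · have hne : g * w ≠ w * g := by
      intro e; rw [← e] at h
      exact hd.ne (mul_eq_left.1 h.symm)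
    have e : g * w * (g * w) = g * g * (w * w) * ζ := by
      rw [key, h]; simp only [mul_assoc, ← hc w]
    simp only [sqSign, comSign, if_neg hne, e]
    rcases hd.square g with a | a <;> rcases hd.square w with b | b <;>
      simp [a, b, hd.ne, hd.sq]

theorem comSign_sum (hd : SymplecticData ζ) {w : P} (hw : ¬ (w = 1 ∨ w = ζ)) :
    ∑ g : P, comSign w g = 0 := by
  obtain ⟨g₀, hg₀⟩ : ∃ g₀, g₀ * w ≠ w * g₀ := by
    by_contra hcon; push Not at hcon; exact hw (hd.nondeg w hcon)
  have hflip : ∀ g, comSign w (g * g₀) = -comSign w g := by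
    intro g
    have h0 : g₀ * w = w * g₀ * ζ := (hd.comm g₀ w).resolve_left hg₀
    have e : g * g₀ * w = g * w * g₀ * ζ := by rw [mul_assoc, h0]; simp only [mul_assoc]
    rcases hd.comm g w with h | h
    · have hne : ¬ (g * g₀ * w = w * (g * g₀)) := by
        intro h'; rw [e, h, mul_assoc w g g₀] at h'; exact hd.ne (mul_eq_left.1 h')
      simp [comSign, hne, h]
    · have hne : ¬ (g * w = w * g) := by
        intro h'; rw [← h'] at h; exact hd.ne (mul_eq_left.1 h.symm)
      have heq : g * g₀ * w = w * (g * g₀) := by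
        rw [e, h, mul_assoc (w * g) ζ, ← hd.central g₀, ← mul_assoc, mul_assoc, hd.sq, mul_one,
          mul_assoc]
      simp [comSign, hne, heq]
  have h := Equiv.sum_comp (Equiv.mulRight g₀) (comSign w)
  simp only [Equiv.coe_mulRight, hflip, Finset.sum_neg_distrib] at h
  omega

theorem sqSign_total (hd : SymplecticData ζ) :
    (∑ g : P, sqSign g) * (∑ g : P, sqSign g) = 2 * (Fintype.card P : ℤ) := by
  have h1 : ∀ g : P, ∑ h : P, sqSign g * sqSign h = ∑ w : P, sqSign w * comSign w g := by
    intro g
    rw [← Equiv.sum_comp (Equiv.mulLeft g) (fun h => sqSign g * sqSign h)]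
    refine Finset.sum_congr rfl fun w _ => ?_
    rw [Equiv.coe_mulLeft, sqSign_mul hd, ← mul_assoc, ← mul_assoc,
      show sqSign g * sqSign g = 1 by unfold sqSign; split_ifs <;> norm_num, one_mul]
  rw [Finset.sum_mul_sum, Finset.sum_congr rfl (fun g _ => h1 g), Finset.sum_comm]
  simp only [← Finset.mul_sum]
  have h2 : ∀ w : P, w = 1 ∨ w = ζ → sqSign w * ∑ g : P, comSign w g = (Fintype.card P : ℤ) := by
    intro w hw
    have e1 : sqSign w = 1 := by
      rcases hw with e | e <;> simp [sqSign, e, hd.sq]
    have e2 : ∀ g, comSign w g = 1 := fun g => by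
      rcases hw with e | e <;> simp [comSign, e, hd.central g]
    simp [e1, e2, Finset.card_univ]
  rw [← Finset.sum_filter_add_sum_filter_not Finset.univ (fun w : P => w = 1 ∨ w = ζ),
    Finset.sum_eq_zero (s := Finset.univ.filter fun w : P => ¬(w = 1 ∨ w = ζ)) (fun w hw => by
      rw [comSign_sum hd (Finset.mem_filter.1 hw).2, mul_zero]), add_zero,
    show (Finset.univ.filter fun w : P => w = 1 ∨ w = ζ) = {1, ζ} by ext w; simp,
    Finset.sum_pair hd.ne.symm, h2 1 (Or.inl rfl), h2 ζ (Or.inr rfl)]
  ring

theorem symplectic_of_extraspecial (hex : IsExtraspecial 2 P) :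
    ∃ ζ : P, SymplecticData ζ := by
  obtain ⟨⟨hP, hfr, hco⟩, hc⟩ := hex
  haveI : Fact (Nat.Prime 2) := ⟨Nat.prime_two⟩
  obtain ⟨ζc, hζ, hall⟩ : ∃ ζc : Subgroup.center P, ζc ≠ 1 ∧ ∀ w, w = 1 ∨ w = ζc := by
    obtain ⟨x, y, hxy, huniv⟩ := Nat.card_eq_two_iff.1 hc
    have hm : ∀ w, w = x ∨ w = y := fun w => by
      have : w ∈ ({x, y} : Set (Subgroup.center P)) := huniv ▸ Set.mem_univ w
      simpa using this
    rcases hm 1 with e | e
    · exact ⟨y, fun h => hxy (by rw [← e, h]), fun w => (hm w).imp (fun hw => hw.trans e.symm) id⟩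
    · exact ⟨x, fun h => hxy (by rw [← e, h]), fun w => (hm w).symm.imp (fun hw => hw.trans e.symm) id⟩
  have hz : ∀ w ∈ Subgroup.center P, w = 1 ∨ w = (ζc : P) := fun w hw =>
    (hall ⟨w, hw⟩).imp (fun h => congrArg Subtype.val h) (fun h => congrArg Subtype.val h)
  have hne : (ζc : P) ≠ 1 := fun h => hζ (Subtype.ext h)
  refine ⟨ζc, hne, ?_, fun g => Subgroup.mem_center_iff.1 ζc.2 g, fun g => ?_, fun a b => ?_, fun w hw => ?_⟩
  · rcases hz _ (mul_mem ζc.2 ζc.2) with h | h
    · exact h
    · exact absurd (mul_eq_left.1 h) hne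
  · refine hz _ ?_
    rw [← hfr, ← sq]
    exact Cores.pow_mem_frattini hP g
  · have h : a⁻¹ * b⁻¹ * a * b ∈ Subgroup.center P := by
      rw [← hco]
      have := Subgroup.commutator_mem_commutator (Subgroup.mem_top (a⁻¹)) (Subgroup.mem_top (b⁻¹))
      rw [commutatorElement_def, inv_inv, inv_inv] at this
      exact this
    rcases hz _ h with e | e
    · exact Or.inl (by
        have := congrArg (fun v => b * a * v) e
        simpa [mul_assoc] using this)
    · exact Or.inr (by
        have := congrArg (fun v => b * a * v) e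
        simpa [mul_assoc] using this)
  · exact hz w (Subgroup.mem_center_iff.2 hw)

theorem involution_structure (hex : IsExtraspecial 2 P) (hcard : Fintype.card P = 32)
    (f : MulAut P) (hf5 : f ^ 5 = 1) (hf : f ≠ 1) :
    (Finset.univ.filter fun g : P => g * g = 1 ∧ g ∉ Subgroup.center P).card = 10 ∧
    ∀ a b : P, a * a = 1 → b * b = 1 → a * b = b * a → a ∉ Subgroup.center P →
      b ∉ Subgroup.center P → a * b ∉ Subgroup.center P → False := by
  obtain ⟨ζ, hd⟩ := symplectic_of_extraspecial hex
  haveI : Fact (Nat.Prime 5) := ⟨by decide⟩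
  haveI : Fact (Nat.Prime 2) := ⟨Nat.prime_two⟩
  have hcen : ∀ w : P, w ∈ Subgroup.center P ↔ w = 1 ∨ w = ζ := fun w =>
    ⟨fun h => hd.nondeg w (Subgroup.mem_center_iff.1 h), fun h => Subgroup.mem_center_iff.2 (by
      rcases h with rfl | rfl
      · simp
      · exact hd.central)⟩
  have hfζ : f ζ = ζ := by
    have h : f ζ = 1 ∨ f ζ = ζ := hd.nondeg _ fun g => by
      obtain ⟨g', rfl⟩ := f.surjective g
      rw [← map_mul, ← map_mul, hd.central g']
    exact h.resolve_left fun h => hd.ne (f.injective (h.trans (map_one f).symm))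
  -- the fixed subgroup
  have hperm : ∀ (S : Finset P) (hS : ∀ g, f g ∈ S ↔ g ∈ S),
      (S.filter fun g => f g = g).card ≡ S.card [MOD 5] := by
    intro S hS
    let σ : Equiv.Perm {g // g ∈ S} := Equiv.Perm.subtypePerm (f.toEquiv : Equiv.Perm P) hS
    have hσ : σ ^ 5 ^ 1 = 1 := by
      ext ⟨g, hg⟩
      have hpow : ∀ n : ℕ, ((σ ^ n) ⟨g, hg⟩ : P) = (f ^ n) g := by
        intro n
        induction n with
        | zero => rfl
        | succ n ih =>
          rw [pow_succ', pow_succ', Equiv.Perm.mul_apply, MulAut.mul_apply, ← ih]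
          rfl
      rw [pow_one, hpow 5, hf5]
      rfl
    have h := Equiv.Perm.card_compl_support_modEq hσ
    rw [Fintype.card_coe] at h
    refine Eq.trans ?_ h
    congr 1
    refine Finset.card_bij (fun g hg => ⟨g, (Finset.mem_filter.1 hg).1⟩) (fun g hg => ?_)
      (fun a _ b _ e => congrArg Subtype.val e) (fun b hb => ⟨b.1, ?_, rfl⟩)
    · simp only [Finset.mem_compl, Equiv.Perm.mem_support, not_not]
      exact Subtype.ext (Finset.mem_filter.1 hg).2
    · simp only [Finset.mem_compl, Equiv.Perm.mem_support, not_not] at hb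
      exact Finset.mem_filter.2 ⟨b.2, congrArg Subtype.val hb⟩
  let K : Subgroup P := f.toMonoidHom.eqLocus (MonoidHom.id P)
  have hK : ∀ g, g ∈ K ↔ f g = g := fun g => Iff.rfl
  have hKc : K = Subgroup.center P := by
    have hle : Subgroup.center P ≤ K := fun w hw => by
      rcases (hcen w).1 hw with rfl | rfl
      · exact map_one f
      · exact hfζ
    refine (Subgroup.eq_of_le_of_card_ge hle ?_).symm
    rw [hex.2]
    have h := hperm Finset.univ (fun g => by simp)
    rw [Finset.card_univ, hcard, show (Finset.univ.filter fun g => f g = g).card = Nat.card K by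
      rw [Nat.card_eq_fintype_card, Fintype.card_subtype]; exact Finset.card_bij (fun g _ => g)
        (fun g hg => by simpa [hK] using hg) (fun a _ b _ e => e)
        (fun b hb => ⟨b, by simpa [hK] using hb, rfl⟩)] at h
    obtain ⟨i, hi, hi'⟩ := (Nat.dvd_prime_pow Nat.prime_two).1
      (show Nat.card K ∣ 2 ^ 5 by
        have := Subgroup.card_subgroup_dvd_card K
        rwa [Nat.card_eq_fintype_card (α := P), hcard] at this)
    rw [hi'] at h ⊢
    have hlt : i ≠ 5 := by
      rintro rfl
      have : K = ⊤ := Subgroup.eq_top_of_le_card _ (by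
        rw [hi', Nat.card_eq_fintype_card, hcard]; norm_num)
      exact hf (MulEquiv.ext fun g => (hK g).1 (by rw [this]; trivial))
    interval_cases i <;> simp_all [Nat.ModEq]
  set T := Finset.univ.filter fun g : P => g * g = 1 ∧ g ∉ Subgroup.center P with hT
  have hTf : ∀ g, f g ∈ T ↔ g ∈ T := fun g => by
    have e1 : f g * f g = 1 ↔ g * g = 1 := by rw [← map_mul, EmbeddingLike.map_eq_one_iff]
    have e2 : f g ∈ Subgroup.center P ↔ g ∈ Subgroup.center P := by
      rw [hcen, hcen]
      exact or_congr (EmbeddingLike.map_eq_one_iff) ⟨fun h => f.injective (h.trans hfζ.symm), fun h => h ▸ hfζ⟩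
    simp [hT, e1, e2]
  have hTfix : (T.filter fun g => f g = g) = ∅ := by
    refine Finset.filter_eq_empty_iff.2 fun g hg hfg => (Finset.mem_filter.1 hg).2.2 ?_
    rw [← hKc]
    exact (hK g).2 hfg
  have h5 : T.card ≡ 0 [MOD 5] := by
    have := hperm T hTf
    rw [hTfix, Finset.card_empty] at this
    exact this.symm
  have hsum : (∑ g : P, sqSign g) = 2 * (T.card : ℤ) - 28 := by
    have e : ∀ g : P, sqSign g = 2 * (if g * g = 1 then (1 : ℤ) else 0) - 1 := fun g => by
      unfold sqSign; split_ifs <;> norm_num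
    rw [Finset.sum_congr rfl (fun g _ => e g), Finset.sum_sub_distrib, ← Finset.mul_sum,
      Finset.sum_boole, Finset.sum_const, Finset.card_univ, hcard]
    have hc : (Finset.univ.filter fun g : P => g * g = 1).card = T.card + 2 := by
      rw [show (Finset.univ.filter fun g : P => g * g = 1) = T ∪ {1, ζ} by
        ext g
        simp only [hT, Finset.mem_filter, Finset.mem_union, Finset.mem_univ, true_and,
          Finset.mem_insert, Finset.mem_singleton, hcen]
        constructor
        · tauto
        · rintro (⟨h, -⟩ | rfl | rfl)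
          exacts [h, mul_one _, hd.sq], Finset.card_union_of_disjoint, Finset.card_pair hd.ne.symm]
      rw [Finset.disjoint_right]
      intro g hg hg'
      exact (Finset.mem_filter.1 hg').2.2 ((hcen g).2 (by simpa using hg))
    rw [hc]
    push_cast
    ring
  have hT10 : T.card = 10 := by
    have h := sqSign_total hd
    rw [hsum, hcard] at h
    have hb : T.card ≤ 32 := hcard ▸ Finset.card_le_univ T
    interval_cases T.card <;> simp_all [Nat.ModEq]
  refine ⟨hT10, fun a b ha hb hab hac hbc habc => ?_⟩
  -- no line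
  have hn : (Subgroup.center P).Normal := inferInstance
  let A : Fin 5 → P ⧸ Subgroup.center P := fun k => (((f ^ (k : ℕ)) a : P) : P ⧸ Subgroup.center P)
  have hfpow : ∀ n : ℕ, (f ^ n) ζ = ζ := fun n => by
    induction n with
    | zero => rfl
    | succ n ih => rw [pow_succ', MulAut.mul_apply, ih, hfζ]
  have hfix : ∀ n : ℕ, ¬ 5 ∣ n → ∀ g : P, (f ^ n) g = g → f g = g := fun n hn g hg => by
    obtain ⟨m, hm⟩ : ∃ m, n * m ≡ 1 [MOD 5] := by
      rcases (show n % 5 = 1 ∨ n % 5 = 2 ∨ n % 5 = 3 ∨ n % 5 = 4 by omega) with h | h | h | h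
      exacts [⟨1, by unfold Nat.ModEq; omega⟩, ⟨3, by unfold Nat.ModEq; omega⟩,
        ⟨2, by unfold Nat.ModEq; omega⟩, ⟨4, by unfold Nat.ModEq; omega⟩]
    have e : (f ^ n) ^ m = f := by
      rw [← pow_mul]
      conv_rhs => rw [← pow_one f]
      exact pow_eq_pow_of_modEq hm hf5
    have : ∀ m : ℕ, ((f ^ n) ^ m) g = g := fun m => by
      induction m with
      | zero => rfl
      | succ m ih => rw [pow_succ', MulAut.mul_apply, ih, hg]
    have h := this m
    rwa [e] at h
  have hTa : ∀ n : ℕ, (f ^ n) a ∈ T := fun n => by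
    induction n with
    | zero => exact Finset.mem_filter.2 ⟨Finset.mem_univ _, ha, hac⟩
    | succ n ih => rw [pow_succ', MulAut.mul_apply]; exact (hTf _).2 ih
  have hAinj : Function.Injective A := by
    intro i j hij
    by_contra hne
    have h1 := QuotientGroup.eq.1 hij
    set d : ℕ := ((j : ℕ) + 5 - (i : ℕ)) with hd'
    have hd5 : ¬ 5 ∣ d := by have := i.2; have := j.2; have : (i : ℕ) ≠ j := Fin.val_ne_of_ne hne; omega
    have e : (f ^ (j : ℕ)) a = (f ^ d) ((f ^ (i : ℕ)) a) := by
      rw [← MulAut.mul_apply, ← pow_add, show d + (i : ℕ) = (j : ℕ) + 5 by omega, pow_add, hf5, mul_one]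
    set g := (f ^ (i : ℕ)) a with hg
    have hg2 := (Finset.mem_filter.1 (hTa i)).2
    rw [e] at h1
    have hfg : (f ^ d) g = g ∨ (f ^ d) g = g * ζ := by
      rcases (hcen _).1 h1 with h | h
      · exact Or.inl (inv_mul_eq_one.1 h).symm
      · exact Or.inr (inv_mul_eq_iff_eq_mul.1 h)
    have hfd : (f ^ (d + d)) g = g := by
      rw [pow_add, MulAut.mul_apply]
      rcases hfg with h | h
      · rw [h, h]
      · rw [h, map_mul, hfpow, h, mul_assoc, hd.sq, mul_one]
    refine hg2.2 ?_
    rw [← hKc]
    exact (hK g).2 (hfix _ (by omega) g hfd)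
  have hcover : ∀ u ∈ T, ∃ k, A k = (u : P ⧸ Subgroup.center P) := by
    intro u hu
    by_contra hcon
    push Not at hcon
    let W : Finset P := Finset.univ.image (fun q : Option (Fin 5) × Bool =>
      (match q.1 with | none => u | some k => (f ^ (k : ℕ)) a) * (if q.2 then ζ else 1))
    have hW : W ⊆ T := by
      intro w hw
      obtain ⟨⟨q, c⟩, -, rfl⟩ := Finset.mem_image.1 hw
      have hq : ∀ v ∈ T, v * (if c then ζ else 1) ∈ T := fun v hv => by
        obtain ⟨h1, h2⟩ := (Finset.mem_filter.1 hv).2
        refine Finset.mem_filter.2 ⟨Finset.mem_univ _, ?_, ?_⟩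
        · cases c
          · simpa using h1
          · show v * ζ * (v * ζ) = 1
            rw [mul_assoc, ← mul_assoc ζ v ζ, ← hd.central v, mul_assoc v ζ ζ, hd.sq, mul_one, h1]
        · intro hm
          refine h2 ((Subgroup.mul_mem_cancel_right _ ((hcen _).2 ?_)).1 hm)
          cases c <;> simp
      cases q with
      | none => exact hq u hu
      | some k => exact hq _ (hTa k)
    have hinj : Function.Injective (fun q : Option (Fin 5) × Bool =>
        (match q.1 with | none => u | some k => (f ^ (k : ℕ)) a) * (if q.2 then ζ else 1)) := by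
      rintro ⟨q, c⟩ ⟨q', c'⟩ e
      have hq : q = q' := by
        have e' := congrArg (fun v : P => (v : P ⧸ Subgroup.center P)) e
        have h1 : ∀ c : Bool, (QuotientGroup.mk (if c then ζ else 1) : P ⧸ Subgroup.center P) = 1 := fun c => by
          rw [QuotientGroup.eq_one_iff, hcen]; cases c <;> simp
        simp only [QuotientGroup.mk_mul, h1, mul_one] at e'
        cases q with
        | none => cases q' with
          | none => rfl
          | some k => exact absurd e'.symm (hcon k)
        | some k => cases q' with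
          | none => exact absurd e' (hcon k)
          | some k' => exact congrArg some (hAinj e')
      subst hq
      have e2 := mul_left_cancel e
      cases c <;> cases c' <;> simp_all [hd.ne, Ne.symm hd.ne]
    have h12 : W.card = 12 := by
      rw [Finset.card_image_of_injective _ hinj]; rfl
    have := Finset.card_le_card hW
    omega
  obtain ⟨i, hi⟩ := hcover b (Finset.mem_filter.2 ⟨Finset.mem_univ _, hb, hbc⟩)
  obtain ⟨j, hj⟩ := hcover (a * b) (Finset.mem_filter.2 ⟨Finset.mem_univ _, by
    calc a * b * (a * b) = a * (b * a) * b := by simp only [mul_assoc]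
      _ = a * a * (b * b) := by rw [← hab]; simp only [mul_assoc]
      _ = 1 := by rw [ha, hb, one_mul], habc⟩)
  have hA0 : A 0 = (a : P ⧸ Subgroup.center P) := rfl
  have hi0 : i ≠ 0 := fun e => habc (by
    rw [← QuotientGroup.eq_one_iff, QuotientGroup.mk_mul, ← hi, e, hA0, ← QuotientGroup.mk_mul, ha,
      QuotientGroup.mk_one])
  have hj0 : j ≠ 0 := fun e => hbc (by
    rw [← QuotientGroup.eq_one_iff]
    have := hj
    rw [e, hA0, QuotientGroup.mk_mul] at this
    exact mul_eq_left.1 this.symm)
  have hij : i ≠ j := fun e => hac (by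
    rw [← QuotientGroup.eq_one_iff]
    have := hj
    rw [← e, hi, QuotientGroup.mk_mul] at this
    exact mul_eq_right.1 this.symm)
  have hcommQ : ∀ u v : P ⧸ Subgroup.center P, u * v = v * u := by
    intro u v
    induction u using QuotientGroup.induction_on with
    | H u => induction v using QuotientGroup.induction_on with
      | H v =>
        rw [← QuotientGroup.mk_mul, ← QuotientGroup.mk_mul]
        rcases hd.comm u v with h | h
        · rw [h]
        · rw [h, QuotientGroup.mk_mul, (QuotientGroup.eq_one_iff ζ).2 ((hcen ζ).2 (Or.inr rfl)), mul_one]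
  let fq : (P ⧸ Subgroup.center P) →* (P ⧸ Subgroup.center P) :=
    QuotientGroup.map _ _ f.toMonoidHom fun w hw => by
      show f w ∈ Subgroup.center P
      rcases (hcen w).1 hw with rfl | rfl
      · rw [map_one]; exact one_mem _
      · rw [hfζ]; exact hw
  have hstep : ∀ k : Fin 5, fq (A k) = A (k + 1) := by
    intro k
    show ((f ((f ^ (k : ℕ)) a) : P) : P ⧸ Subgroup.center P) = _
    rw [← MulAut.mul_apply, ← pow_succ']
    refine congrArg (fun g : MulAut P => ((g a : P) : P ⧸ Subgroup.center P)) ?_
    refine pow_eq_pow_of_modEq ?_ hf5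
    rw [Fin.val_add]
    exact (Nat.mod_modEq _ _).symm
  have hline : ∀ k : Fin 5, A (0 + k) * A (i + k) * A (j + k) = 1 := by
    have h0 : A 0 * A i * A j = 1 := by
      rw [hA0, hi, hj, ← QuotientGroup.mk_mul, ← QuotientGroup.mk_mul]
      rw [show a * b * (a * b) = a * (b * a) * b by simp only [mul_assoc], ← hab,
        show a * (a * b) * b = a * a * (b * b) by simp only [mul_assoc], ha, hb, one_mul,
        QuotientGroup.mk_one]
    have hs : ∀ k : Fin 5, A (0 + k) * A (i + k) * A (j + k) = 1 →
        A (0 + (k + 1)) * A (i + (k + 1)) * A (j + (k + 1)) = 1 := by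
      intro k ih
      have h1 := congrArg fq ih
      rw [map_mul, map_mul, map_one, hstep, hstep, hstep] at h1
      rw [← add_assoc, ← add_assoc, ← add_assoc]
      exact h1
    have k0 : A (0 + 0) * A (i + 0) * A (j + 0) = 1 := by simpa using h0
    have k1 := hs 0 k0
    have k2 := hs _ k1
    have k3 := hs _ k2
    have k4 := hs _ k3
    intro k
    fin_cases k
    exacts [k0, k1, k2, k3, k4]
  obtain ⟨k, q, hq, q', hq', e1, e2, e3⟩ := shift_triple i j hi0 hj0 hij
  have hperm3 : ∀ k : Fin 5, ∀ q ∈ arrangements i j, A (q.1 + k) * A (q.2.1 + k) * A (q.2.2 + k) = 1 := by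
    intro k q hq
    have h := hline k
    simp only [arrangements, List.mem_cons, List.not_mem_nil, or_false] at hq
    rcases hq with rfl | rfl | rfl | rfl | rfl | rfl
    · exact h
    · rw [mul_assoc, hcommQ (A (j + k)), ← mul_assoc]; exact h
    · rw [hcommQ (A (i + k))]; exact h
    · rw [hcommQ, ← mul_assoc]; exact h
    · rw [mul_assoc, hcommQ]; exact h
    · rw [hcommQ, hcommQ (A (j + k)), ← mul_assoc]; exact h
  have h1 := hperm3 k q hq
  have h2 := hperm3 0 q' hq'
  simp only [add_zero] at h2
  rw [e1, e2, ← h2] at h1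
  exact e3 (hAinj (mul_left_cancel h1))

end Cfsg.Agent.Lib.HallJankoOrder
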