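import Mathlib.GroupTheory.SpecificGroups.Alternating
import Mathlib.Data.Fintype.Perm

/-!
Finite checks for the order of the Hall–Janko group.
-/

set_option autoImplicit false

namespace Cfsg.Agent.Lib.HallJankoOrder

theorem a5_pairs :
    (Finset.univ.filter fun q : alternatingGroup (Fin 5) × alternatingGroup (Fin 5) =>
      q.1 * q.1 = 1 ∧ q.1 ≠ 1 ∧ q.2 * q.2 = 1 ∧ (q.1 * q.2) ^ 15 = 1).card = 195 := by
  decide +kernel

theorem a5_commuting : ∀ b : alternatingGroup (Fin 5), b * b = 1 → b ≠ 1 →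
    (Finset.univ.filter fun c : alternatingGroup (Fin 5) =>
      c * c = 1 ∧ c ≠ 1 ∧ c * b = b * c).card = 3 := by
  decide +kernel

theorem a5_involutions :
    (Finset.univ.filter fun c : alternatingGroup (Fin 5) => c * c = 1 ∧ c ≠ 1).card = 15 := by
  decide +kernel

/-- The six arrangements of `0, i, j`. -/
def arrangements (i j : Fin 5) : List (Fin 5 × Fin 5 × Fin 5) :=
  [(0, i, j), (0, j, i), (i, 0, j), (i, j, 0), (j, 0, i), (j, i, 0)]

theorem shift_triple : ∀ i j : Fin 5, i ≠ 0 → j ≠ 0 → i ≠ j →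
    ∃ k : Fin 5, ∃ q ∈ arrangements i j, ∃ q' ∈ arrangements i j,
      q.1 + k = q'.1 ∧ q.2.1 + k = q'.2.1 ∧ q.2.2 + k ≠ q'.2.2 := by
  decide +kernel

end Cfsg.Agent.Lib.HallJankoOrder
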